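import Groth.Agent.GenFinite.Basic
import Groth.Agent.VarDim.Scheme

/-!
# The rank of the general fibre of a generically finite morphism is its degree
-/

set_option autoImplicit false

universe u

noncomputable section

open CategoryTheory Limits AlgebraicGeometry
open scoped TensorProduct

namespace Groth.Agent.GenDeg86

/-- A finite algebra over a domain is free of rank its rank after inverting one element. -/
theorem exists_const_rank (A B : Type u) [CommRing A] [IsDomain A] [CommRing B] [Algebra A B]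
    [Module.Finite A B] [Module.IsTorsionFree A B] :
    ∃ a : A, a ≠ 0 ∧ ∀ (C : Type u) [Field C] [Algebra A C], algebraMap A C a ≠ 0 →
      Module.Finite C (C ⊗[A] B) ∧ Module.finrank C (C ⊗[A] B) = Module.finrank A B := by
  classical
  obtain ⟨v, hv⟩ := exists_linearIndependent_of_le_finrank (R := A) (M := B) le_rfl
  let s := Fintype.linearCombination A v
  have hs : Function.Injective s := hv.fintypeLinearCombination_injective
  have hdep : ∀ b : B, ∃ c : A, c ≠ 0 ∧ c • b ∈ LinearMap.range s := by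
    intro b
    by_contra! hall
    have hli : LinearIndependent A (Fin.snoc v b : Fin (Module.finrank A B + 1) → B) := by
      rw [Fintype.linearIndependent_iff]
      intro g hg
      rw [Fin.sum_univ_castSucc] at hg
      simp only [Fin.snoc_castSucc, Fin.snoc_last] at hg
      have h0 : g (Fin.last _) = 0 := by
        by_contra hne
        refine hall _ hne ⟨fun i => -g i.castSucc, ?_⟩
        rw [Fintype.linearCombination_apply]
        simp only [neg_smul, Finset.sum_neg_distrib]
        exact (neg_eq_of_add_eq_zero_right hg)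
      rw [h0, zero_smul, add_zero] at hg
      intro i
      induction i using Fin.lastCases with
      | last => exact h0
      | cast j => exact Fintype.linearIndependent_iff.mp hv (fun i => g i.castSucc) hg j
    have := hli.fintype_card_le_finrank
    simp at this
  choose c hc hcb using hdep
  obtain ⟨S, hS⟩ := (inferInstance : Module.Finite A B).fg_top
  refine ⟨∏ b ∈ S, c b, Finset.prod_ne_zero_iff.mpr fun b _ => hc b, fun C _ _ hC => ?_⟩
  set a := ∏ b ∈ S, c b
  have hrange : ∀ b, a • b ∈ LinearMap.range s := by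
    intro b
    have hb : b ∈ Submodule.span A (S : Set B) := by rw [hS]; exact trivial
    induction hb using Submodule.span_induction with
    | mem x hx =>
      obtain ⟨d, hd⟩ := Finset.dvd_prod_of_mem c hx
      rw [show a = d * c x by rw [mul_comm]; exact hd, mul_smul]
      exact Submodule.smul_mem _ _ (hcb x)
    | zero => rw [smul_zero]; exact zero_mem _
    | add x y _ _ hx hy => rw [smul_add]; exact add_mem hx hy
    | smul r x _ hx => rw [smul_comm]; exact Submodule.smul_mem _ _ hx
  choose t ht using hrange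
  let g : B →ₗ[A] (Fin (Module.finrank A B) → A) :=
    { toFun := t
      map_add' := fun x y => hs (by rw [map_add, ht, ht, ht, smul_add])
      map_smul' := fun r x => hs (by rw [map_smul, ht, ht, RingHom.id_apply, smul_comm]) }
  let s' : C ⊗[A] (Fin (Module.finrank A B) → A) →ₗ[C] C ⊗[A] B := s.baseChange C
  let g' : C ⊗[A] B →ₗ[C] C ⊗[A] (Fin (Module.finrank A B) → A) := g.baseChange C
  have h1 : ∀ x, s' (g' x) = algebraMap A C a • x := fun x => by
    induction x using TensorProduct.induction_on with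
    | zero => simp
    | tmul z b =>
      show z ⊗ₜ[A] s (g b) = _
      rw [show s (g b) = a • b from ht b, TensorProduct.smul_tmul', ← TensorProduct.smul_tmul, Algebra.smul_def,
        smul_eq_mul]
    | add x y hx hy => simp [hx, hy]
  have h2 : ∀ x, g' (s' x) = algebraMap A C a • x := fun x => by
    induction x using TensorProduct.induction_on with
    | zero => simp
    | tmul z b =>
      show z ⊗ₜ[A] g (s b) = _
      rw [show g (s b) = a • b from hs (by rw [map_smul]; exact ht _), TensorProduct.smul_tmul',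
        ← TensorProduct.smul_tmul, Algebra.smul_def, smul_eq_mul]
    | add x y hx hy => simp [hx, hy]
  have hbij : Function.Bijective s' := by
    refine ⟨fun x y hxy => ?_, fun x => ⟨g' ((algebraMap A C a)⁻¹ • x), ?_⟩⟩
    · have := congrArg g' hxy
      rw [h2, h2] at this
      exact smul_right_injective _ hC this
    · rw [h1, smul_smul, mul_inv_cancel₀ hC, one_smul]
  let e := LinearEquiv.ofBijective s' hbij
  haveI := Module.Finite.equiv e
  refine ⟨this, ?_⟩
  rw [← e.finrank_eq, Module.finrank_baseChange, Module.finrank_fin_fun]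

attribute [local instance] Curv2.resAlgebra

theorem resMap_compat {k : Type u} [Field k] {X Y : Scheme.{u}} [X.Over (Spec (CommRingCat.of k))]
    [Y.Over (Spec (CommRingCat.of k))] (f : X ⟶ Y)
    (hf : f ≫ (Y ↘ Spec (CommRingCat.of k)) = X ↘ Spec (CommRingCat.of k)) (x : X) (c : k) :
    f.residueFieldMap x (Curv2.resMap k Y (f x) c) = Curv2.resMap k X x c := by
  show f.residueFieldMap x (Y.evaluation ⊤ (f x) trivial (Coh.toGlobal (Y ↘ Spec (CommRingCat.of k)) c)) =
    X.evaluation ⊤ x trivial (Coh.toGlobal (X ↘ Spec (CommRingCat.of k)) c)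
  rw [Scheme.evaluation_naturality_apply]
  congr 1
  simp only [← hf]
  rfl

theorem preimage_generic {k : Type u} [Field k] {X Y : Scheme.{u}} [X.Over (Spec (CommRingCat.of k))]
    [Y.Over (Spec (CommRingCat.of k))] [LocallyOfFiniteType (X ↘ Spec (CommRingCat.of k))]
    [LocallyOfFiniteType (Y ↘ Spec (CommRingCat.of k))] [IsIntegral X] [IsIntegral Y] (f : X ⟶ Y)
    (hf : f ≫ (Y ↘ Spec (CommRingCat.of k)) = X ↘ Spec (CommRingCat.of k))
    (hdim : topologicalKrullDim ↥X = topologicalKrullDim ↥Y) (hη : f (genericPoint X) = genericPoint Y) :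
    f.base ⁻¹' {genericPoint Y} = {genericPoint X} := by
  rw [VarDim.topologicalKrullDim_eq_of_irreducible k, VarDim.topologicalKrullDim_eq_of_irreducible k] at hdim
  have hdim' : VarDim.dimPt k X (genericPoint X) = VarDim.dimPt k Y (genericPoint Y) := by exact_mod_cast hdim
  refine Set.eq_singleton_iff_unique_mem.mpr ⟨hη, fun x hx => ?_⟩
  by_contra hne
  have hlt : x < genericPoint X := lt_iff_le_not_ge.mpr ⟨genericPoint_specializes x,
    fun h => hne (Inseparable.eq (Specializes.antisymm h (genericPoint_specializes x)))⟩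
  have h1 := VarDim.dimPt_lt_of_lt k hlt
  letI : Algebra (Y.residueField (f x)) (X.residueField x) := (f.residueFieldMap x).hom.toAlgebra
  let φ : Y.residueField (f x) →ₐ[k] X.residueField x :=
    { (f.residueFieldMap x).hom with commutes' := fun c => resMap_compat f hf x c }
  have h2 := trdeg_le_of_injective φ φ.toRingHom.injective
  rw [VarDim.trdeg_residueField k, VarDim.trdeg_residueField k, show f x = genericPoint Y from hx] at h2
  have h3 : VarDim.dimPt k Y (genericPoint Y) ≤ VarDim.dimPt k X x := by exact_mod_cast h2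
  omega

/-- The structure map of a fibre on global sections. -/
def fibreAlg {X Y : Scheme.{u}} (f : X ⟶ Y) (y : Y) :
    Algebra (Y.residueField y) Γ(pullback f (Y.fromSpecResidueField y), ⊤) :=
  ((Scheme.ΓSpecIso (CommRingCat.of (Y.residueField y))).inv ≫
    (pullback.snd f (Y.fromSpecResidueField y)).appTop).hom.toAlgebra

theorem evaluation_fromSpec {Y : Scheme.{u}} {V : Y.Opens} (hV : IsAffineOpen V) (y : Y) (hy : y ∈ V) :
    Spec.map (Y.evaluation V y hy) ≫ hV.fromSpec = Y.fromSpecResidueField y := by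
  show Spec.map (Y.presheaf.germ V y hy ≫ Y.residue y) ≫ _ = _
  rw [Spec.map_comp, Category.assoc, Scheme.fromSpecResidueField]
  congr 1
  exact hV.fromSpecStalk_eq_fromSpecStalk hy

theorem isIso_residue_generic (Z : Scheme.{u}) [IsIntegral Z] : IsIso (Z.residue (genericPoint Z)) := by
  letI : Field (Z.presheaf.stalk (genericPoint Z)) := inferInstanceAs (Field Z.functionField)
  haveI : Nontrivial (Z.residueField (genericPoint Z)) := inferInstance
  exact (ConcreteCategory.isIso_iff_bijective _).mpr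
    ⟨RingHom.injective (Z.residue (genericPoint Z)).hom, Z.residue_surjective _⟩

attribute [local instance] isIso_residue_generic

theorem main {X Y : Scheme.{u}} [IsIntegral X] [IsIntegral Y] (f : X ⟶ Y) [QuasiCompact f]
    [LocallyOfFiniteType f] (hη : f (genericPoint X) = genericPoint Y) (hpre : f.base ⁻¹' {genericPoint Y} = {genericPoint X}) :
    (letI := (f.residueFieldMap (genericPoint ↥X)).hom.toAlgebra;
      Module.Finite (Y.residueField (f.base (genericPoint ↥X))) (X.residueField (genericPoint ↥X))) ∧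
    ∃ U : Y.Opens, Nonempty ↥U ∧ ∀ y : Y, y ∈ U →
      IsFinite (pullback.snd f (Y.fromSpecResidueField y)) ∧
        (letI := fibreAlg f y;
          Module.finrank (Y.residueField y) ↑(Γ(pullback f (Y.fromSpecResidueField y), ⊤))) =
        (letI := (f.residueFieldMap (genericPoint ↥X)).hom.toAlgebra;
          Module.finrank (Y.residueField (f.base (genericPoint ↥X))) (X.residueField (genericPoint ↥X))) := by
  classical
  have hirr : closure {genericPoint Y} ∈ irreducibleComponents Y := by
    rw [FlatMor.GenericPts.closure_mem_irreducibleComponents_iff]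
    exact fun z _ => genericPoint_specializes z
  obtain ⟨W₀, hW₀, hξW₀, -⟩ := exists_isAffineOpen_mem_and_subset (X := X) (x := genericPoint X) (U := ⊤) trivial
  haveI : IsAffine (W₀ : Scheme.{u}) := hW₀
  obtain ⟨V, hV, hηV, hfin⟩ := GenFinite.exists_affine_isFinite f hirr (by rw [hpre]; exact Set.finite_singleton _)
    W₀ inferInstance (by rw [hpre]; exact Set.singleton_subset_iff.mpr hξW₀)
  haveI : IsAffine (V : Scheme.{u}) := hV
  have hW : IsAffineOpen (f ⁻¹ᵁ V) := isAffine_of_isAffineHom (f ∣_ V)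
  have hξ : genericPoint X ∈ f ⁻¹ᵁ V := by show f (genericPoint X) ∈ V; rw [hη]; exact hηV
  haveI : Nonempty ↥(f ⁻¹ᵁ V) := ⟨⟨_, hξ⟩⟩
  haveI : Nonempty ↥V := ⟨⟨_, hηV⟩⟩
  haveI : Nonempty (V : Scheme.{u}) := ⟨⟨_, hηV⟩⟩
  haveI : Nonempty ((f ⁻¹ᵁ V : X.Opens) : Scheme.{u}) := ⟨⟨_, hξ⟩⟩
  letI algAB : Algebra Γ(Y, V) Γ(X, f ⁻¹ᵁ V) := (f.app V).hom.toAlgebra
  haveI : Module.Finite Γ(Y, V) Γ(X, f ⁻¹ᵁ V) := by
    have h := IsFinite.finite_app (f := f ∣_ V) ⊤ (isAffineOpen_top _)
    rw [morphismRestrict_app] at h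
    have e : ∀ {A B A' B' : CommRingCat.{u}} (i : A ≅ A') (j : B' ≅ B) (p : A' ⟶ B'),
        (i.hom ≫ p ≫ j.hom).hom.Finite → p.hom.Finite := by
      intro A B A' B' i j p hp
      have : p = i.inv ≫ (i.hom ≫ p ≫ j.hom) ≫ j.inv := by simp
      rw [this]
      simp only [CommRingCat.hom_comp]
      exact ((RingHom.Finite.of_surjective _ (ConcreteCategory.bijective_of_isIso j.inv).2).comp hp).comp
        (RingHom.Finite.of_surjective _ (ConcreteCategory.bijective_of_isIso i.inv).2)
    have hVV : V.ι ''ᵁ ⊤ = V := V.ι_image_top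
    have key : ∀ (W : Y.Opens) (hWV : W = V) (Z : X.Opens) (i : Z ⟶ f ⁻¹ᵁ W) [IsIso (X.presheaf.map i.op)],
        (f.app W ≫ X.presheaf.map i.op).hom.Finite → (f.app V).hom.Finite := by
      intro W hWV Z i _ hp
      subst hWV
      exact e (Iso.refl _) (asIso (X.presheaf.map i.op)) _ (by simpa using hp)
    exact key _ hVV _ (eqToHom _) h
  have hinjA : Function.Injective (algebraMap Γ(Y, V) Γ(X, f ⁻¹ᵁ V)) := by
    intro a b hab
    apply Y.germToFunctionField_injective V
    have h1 := congrArg (X.evaluation (f ⁻¹ᵁ V) (genericPoint X) hξ) hab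
    show _ = _
    erw [← Scheme.evaluation_naturality_apply, ← Scheme.evaluation_naturality_apply] at h1
    have h2 : Y.evaluation V (f (genericPoint X)) hξ a = Y.evaluation V (f (genericPoint X)) hξ b :=
      (f.residueFieldMap _).hom.injective h1
    have key : ∀ (p : Y) (_ : p = genericPoint Y) (hp : p ∈ V), Y.evaluation V p hp a = Y.evaluation V p hp b →
        Y.germToFunctionField V a = Y.germToFunctionField V b := by
      rintro p rfl hp hpe
      exact (ConcreteCategory.bijective_of_isIso (Y.residue (genericPoint Y))).1 hpe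
    exact key _ hη hξ h2
  haveI : FaithfulSMul Γ(Y, V) Γ(X, f ⁻¹ᵁ V) := (faithfulSMul_iff_algebraMap_injective _ _).mpr hinjA
  haveI : Module.IsTorsionFree Γ(Y, V) Γ(X, f ⁻¹ᵁ V) := inferInstance
  obtain ⟨a, ha, hrank⟩ := exists_const_rank Γ(Y, V) Γ(X, f ⁻¹ᵁ V)
  -- the residue fields at the generic points
  let ξ := genericPoint X
  letI algA : Algebra Γ(Y, V) (Y.residueField (f ξ)) := (Y.evaluation V (f ξ) hξ).hom.toAlgebra
  letI algB : Algebra Γ(X, f ⁻¹ᵁ V) (X.residueField ξ) := (X.evaluation (f ⁻¹ᵁ V) ξ hξ).hom.toAlgebra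
  letI algKL : Algebra (Y.residueField (f ξ)) (X.residueField ξ) := (f.residueFieldMap ξ).hom.toAlgebra
  letI algAL : Algebra Γ(Y, V) (X.residueField ξ) :=
    ((algebraMap (Y.residueField (f ξ)) (X.residueField ξ)).comp (algebraMap Γ(Y, V) _)).toAlgebra
  haveI : IsScalarTower Γ(Y, V) (Y.residueField (f ξ)) (X.residueField ξ) := .of_algebraMap_eq fun _ => rfl
  haveI : IsScalarTower Γ(Y, V) Γ(X, f ⁻¹ᵁ V) (X.residueField ξ) :=
    .of_algebraMap_eq fun s => Scheme.evaluation_naturality_apply f ξ hξ s
  have hfrac : ∀ {Z : Scheme.{u}} [IsIntegral Z] (O : Z.Opens) (_ : IsAffineOpen O) [Nonempty ↥O] (p : Z)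
      (_ : p = genericPoint Z) (hp : p ∈ O),
      @IsFractionRing Γ(Z, O) _ (Z.residueField p) _ (Z.evaluation O p hp).hom.toAlgebra := by
    intro Z _ O hO _ p hp0 hp
    subst hp0
    haveI : Nonempty (O : Scheme.{u}) := ⟨⟨_, hp⟩⟩
    letI := (Z.evaluation O (genericPoint Z) hp).hom.toAlgebra
    haveI := functionField_isFractionRing_of_isAffineOpen Z O hO
    let e : Z.functionField ≃ₐ[Γ(Z, O)] Z.residueField (genericPoint Z) :=
      AlgEquiv.ofRingEquiv (f := (asIso (Z.residue (genericPoint Z))).commRingCatIsoToRingEquiv) fun _ => rfl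
    exact IsLocalization.isLocalization_of_algEquiv _ e
  haveI : IsFractionRing Γ(Y, V) (Y.residueField (f ξ)) := hfrac V hV _ hη hξ
  haveI : IsFractionRing Γ(X, f ⁻¹ᵁ V) (X.residueField ξ) := hfrac _ hW _ rfl hξ
  haveI : Algebra.IsAlgebraic Γ(Y, V) Γ(X, f ⁻¹ᵁ V) := Algebra.IsAlgebraic.of_finite _ _
  have hdeg : Module.finrank (Y.residueField (f ξ)) (X.residueField ξ) = Module.finrank Γ(Y, V) Γ(X, f ⁻¹ᵁ V) :=
    IsFractionRing.finrank_eq _ _ _ _
  have hpos : Module.Finite (Y.residueField (f ξ)) (X.residueField ξ) := by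
    refine Module.finite_of_finrank_pos ?_
    rw [hdeg]
    exact Module.finrank_pos
  refine ⟨hpos, Y.basicOpen a, ?_, fun y hy => ?_⟩
  · obtain ⟨z, hz⟩ : (Y.basicOpen a : Set Y).Nonempty := by
      rw [Set.nonempty_iff_ne_empty]
      intro h
      exact ha ((basicOpen_eq_bot_iff a).mp (TopologicalSpace.Opens.ext h))
    exact ⟨⟨z, hz⟩⟩
  have hyV : y ∈ V := Y.basicOpen_le a hy
  letI algy : Algebra Γ(Y, V) (Y.residueField y) := (Y.evaluation V y hyV).hom.toAlgebra
  have hay : algebraMap Γ(Y, V) (Y.residueField y) a ≠ 0 := by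
    have := (Scheme.evaluation_ne_zero_iff_mem_basicOpen Y y hyV a).mpr hy
    exact this
  obtain ⟨hfinC, hrC⟩ := hrank (Y.residueField y) hay
  haveI := hfinC
  have hsq : IsPullback hW.fromSpec (Spec.map (f.app V)) f hV.fromSpec := by
    refine (IsOpenImmersion.isPullback (Spec.map (f.app V)) hW.fromSpec hV.fromSpec f ?_ ?_).flip
    · rw [Scheme.Hom.app_eq_appLE]
      exact (hV.SpecMap_appLE_fromSpec f hW le_rfl).symm
    · rw [hW.opensRange_fromSpec, hV.opensRange_fromSpec]
  have hp := (isPullback_SpecMap_of_isPushout _ _ _ _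
    (CommRingCat.isPushout_tensorProduct Γ(Y, V) (Y.residueField y) Γ(X, f ⁻¹ᵁ V))).flip.paste_horiz hsq
  rw [show Spec.map (CommRingCat.ofHom (algebraMap Γ(Y, V) (Y.residueField y))) ≫ hV.fromSpec =
    Y.fromSpecResidueField y from evaluation_fromSpec hV y hyV] at hp
  have hsnd : hp.isoPullback.inv ≫ Spec.map (CommRingCat.ofHom
      (Algebra.TensorProduct.includeLeftRingHom : Y.residueField y →+* Y.residueField y ⊗[Γ(Y, V)] Γ(X, f ⁻¹ᵁ V))) =
      pullback.snd f (Y.fromSpecResidueField y) := hp.isoPullback_inv_snd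
  refine ⟨?_, ?_⟩
  · rw [← hsnd]
    haveI : IsFinite (Spec.map (CommRingCat.ofHom
        (Algebra.TensorProduct.includeLeftRingHom : Y.residueField y →+* Y.residueField y ⊗[Γ(Y, V)] Γ(X, f ⁻¹ᵁ V)))) :=
      (IsFinite.SpecMap_iff _).mpr (RingHom.finite_algebraMap.mpr hfinC)
    infer_instance
  · rw [show Module.finrank (Y.residueField (f.base ξ)) (X.residueField ξ) = Module.finrank Γ(Y, V) Γ(X, f ⁻¹ᵁ V) from hdeg,
      ← hrC]
    letI := fibreAlg f y
    let P := Spec (CommRingCat.of (Y.residueField y ⊗[Γ(Y, V)] Γ(X, f ⁻¹ᵁ V)))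
    haveI : IsIso hp.isoPullback.hom.appTop :=
      (Scheme.Γ.mapIso hp.isoPullback.op).isIso_hom
    let j : Γ(pullback f (Y.fromSpecResidueField y), ⊤) ≅ CommRingCat.of (Y.residueField y ⊗[Γ(Y, V)] Γ(X, f ⁻¹ᵁ V)) :=
      asIso (hp.isoPullback.hom.appTop) ≪≫ Scheme.ΓSpecIso _
    refine Algebra.finrank_eq_of_equiv_equiv (RingEquiv.refl _) j.commRingCatIsoToRingEquiv ?_
    refine RingHom.ext fun c => ?_
    show _ = ((Scheme.ΓSpecIso _).inv ≫ (pullback.snd f (Y.fromSpecResidueField y)).appTop ≫
      hp.isoPullback.hom.appTop ≫ (Scheme.ΓSpecIso _).hom).hom c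
    rw [← Scheme.Hom.comp_appTop_assoc, hp.isoPullback_hom_snd]
    erw [Scheme.ΓSpecIso_naturality, Iso.inv_hom_id_assoc]
    rfl

end Groth.Agent.GenDeg86

end
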